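import Cfsg.Agent.ThreeFour.Simple
import Cfsg.Agent.Components.Misc.SmallOffender
import Cfsg.Agent.S0495
import Cfsg.Agent.S0498
import Cfsg.Agent.S0813
import Cfsg.Agent.Known.AutPSL2

/-!
The quotient by the core for the prime three.
-/

set_option autoImplicit false
set_option linter.unusedSectionVars false
set_option linter.style.haveILetI false

namespace Cfsg.Lib.ThreeFour

open Subgroup
open Cfsg.Lib.SelfCentThree (Inv P3)
open scoped MatrixGroups

universe u

theorem nonempty_mulAut_pgl (p : ℕ) [Fact p.Prime] (hp : 4 ≤ p) :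
    Nonempty (MulAut (Matrix.ProjectiveSpecialLinearGroup (Fin 2) (ZMod p)) ≃*
      (GL (Fin 2) (ZMod p) ⧸ Subgroup.center (GL (Fin 2) (ZMod p)))) := by
  classical
  set φ := (Cfsg.Lib.Known.AutPSL2.liftPSL (F := ZMod p)).comp Cfsg.Lib.Known.AutPSL2.conjSL with hφ
  have hker : φ.ker = Subgroup.center (GL (Fin 2) (ZMod p)) := by
    refine le_antisymm (fun g hg => ?_) (fun g hg => ?_)
    · have hfix : ∀ M, Cfsg.Lib.Known.AutPSL2.π (Cfsg.Lib.Known.AutPSL2.conjSL g M) =
          Cfsg.Lib.Known.AutPSL2.π M := fun M => by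
        rw [← Cfsg.Lib.Known.AutPSL2.liftPSL_apply]
        exact DFunLike.congr_fun (MonoidHom.mem_ker.1 hg) _
      obtain ⟨h01, h10, h00⟩ := Cfsg.Lib.Known.AutPSL2.scalar_of_conjSL_fix (hfix _) (hfix _)
      rw [Subgroup.mem_center_iff]
      intro b
      refine Units.ext ?_
      rw [Units.val_mul, Units.val_mul]
      ext i j
      fin_cases i <;> fin_cases j <;> simp [Matrix.mul_apply, Fin.sum_univ_two, h01, h10, h00, mul_comm]
    · refine MonoidHom.mem_ker.2 (MulEquiv.ext fun z => QuotientGroup.induction_on z fun M => ?_)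
      show Cfsg.Lib.Known.AutPSL2.π (Cfsg.Lib.Known.AutPSL2.conjSL g M) = Cfsg.Lib.Known.AutPSL2.π M
      refine congrArg _ (Cfsg.Lib.Known.AutPSL2.sl_ext ?_)
      rw [Cfsg.Lib.Known.AutPSL2.coe_conjSL]
      have h1 : ((Matrix.SpecialLinearGroup.toGL M : GL (Fin 2) (ZMod p)) * g : GL (Fin 2) (ZMod p)) =
          g * Matrix.SpecialLinearGroup.toGL M := Subgroup.mem_center_iff.1 hg _
      have h2 := congrArg (fun t : GL (Fin 2) (ZMod p) => (t : Matrix (Fin 2) (Fin 2) (ZMod p))) h1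
      simp only [Units.val_mul] at h2
      have h3 : ((Matrix.SpecialLinearGroup.toGL M : GL (Fin 2) (ZMod p)) : Matrix (Fin 2) (Fin 2) (ZMod p)) =
          (M : Matrix (Fin 2) (Fin 2) (ZMod p)) := rfl
      rw [h3] at h2
      rw [← h2, mul_assoc, ← Units.val_mul, mul_inv_cancel, Units.val_one, mul_one]
  have hc := Cfsg.Agent.S0813.result (F := ZMod p) p 1 le_rfl (by rw [ZMod.card, pow_one]) 2 le_rfl
    (fun _ => by rw [pow_one]; exact hp)
  rw [if_pos rfl, one_mul, one_mul] at hc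
  let e₀ := QuotientGroup.quotientKerEquivRange φ
  have hcr : Nat.card φ.range = Nat.card (MulAut (Matrix.ProjectiveSpecialLinearGroup (Fin 2) (ZMod p))) := by
    rw [← Nat.card_congr e₀.toEquiv, hc, hker]
    rfl
  exact ⟨((QuotientGroup.quotientMulEquivOfEq hker.symm).trans (e₀.trans
    ((MulEquiv.subgroupCongr (Subgroup.eq_top_of_card_eq _ hcr)).trans Subgroup.topEquiv))).symm⟩

variable {G : Type u} [Group G] [Finite G] {x : G} {V : Subgroup G}

/-- The structure of a group with such an element. -/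
theorem recog (H : Hyp x V) (h5 : ¬ 5 ∣ Nat.card G) :
    ((Nat.card (G ⧸ Cfsg.pPrimeCore 3 G) = 3 ∨ Nonempty (G ⧸ Cfsg.pPrimeCore 3 G ≃* DihedralGroup 3)) ∧
      Group.IsSolvable G) ∨
    (Nonempty (G ⧸ Cfsg.pPrimeCore 3 G ≃* Matrix.ProjectiveSpecialLinearGroup (Fin 2) (ZMod 7)) ∨
      Nonempty (G ⧸ Cfsg.pPrimeCore 3 G ≃* Matrix.ProjectiveSpecialLinearGroup (Fin 2) (ZMod 13))) ∨
    ((Nonempty (G ⧸ Cfsg.pPrimeCore 3 G ≃* (GL (Fin 2) (ZMod 7) ⧸ Subgroup.center (GL (Fin 2) (ZMod 7)))) ∨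
      Nonempty (G ⧸ Cfsg.pPrimeCore 3 G ≃* (GL (Fin 2) (ZMod 13) ⧸ Subgroup.center (GL (Fin 2) (ZMod 13))))) ∧
      ∃ K : Subgroup G, K.Normal ∧ K.index = 2 ∧ K ⊔ Subgroup.centralizer ({x} : Set G) = ⊤) := by
  classical
  haveI : Fact (Nat.Prime 3) := ⟨Nat.prime_three⟩
  set O := Cfsg.pPrimeCore 3 G with hO
  have hO3 : ¬ 3 ∣ Nat.card O :=
    Nat.prime_three.coprime_iff_not_dvd.1 (Cfsg.Lib.Components.coprime_card_pPrimeCore 3).symm
  set f := QuotientGroup.mk' O with hf
  set y := f x with hydef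
  set W := V.map f with hW
  have hy : orderOf y = 3 := orderOf_eq_prime (by rw [hydef, ← map_pow, H.pow3, map_one])
    fun e => hO3 (H.ord ▸ Subgroup.orderOf_dvd_natCard O ((QuotientGroup.eq_one_iff x).1 e))
  have hdQ : Nat.card (G ⧸ O) ∣ Nat.card G := card_quotient_dvd_card O
  have h9 : ¬ 9 ∣ Nat.card (G ⧸ O) := fun e => H.not_nine (e.trans hdQ)
  have h5' : ¬ 5 ∣ Nat.card (G ⧸ O) := fun e => h5 (e.trans hdQ)
  have hObot : ∀ R : Subgroup (G ⧸ O), R.Normal → ¬ 3 ∣ Nat.card R → R = ⊥ := fun R hR h3 => by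
    haveI := hR
    refine le_bot_iff.1 ?_
    rw [← Cfsg.Lib.Coprime.pPrimeCore_quotient_eq_bot (G := G) (p := 3)]
    exact Cfsg.Lib.Components.le_pPrimeCore (Nat.prime_three.coprime_iff_not_dvd.2 h3).symm
  have hxV : ∀ w ∈ W, Commute w y := by
    rintro _ ⟨w, hw, rfl⟩
    exact (H.comm w hw).map f
  have hW2 : ∀ w ∈ W, w * w = 1 := by
    rintro _ ⟨w, hw, rfl⟩
    rw [← map_mul, H.sq w hw, map_one]
  have hW4 : Nat.card W ∣ 4 := (card_map_dvd _ _).trans (by rcases H.card with e | e <;> rw [e]; norm_num)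
  have hcent : ∀ q, Commute q y → ∃ i ∈ zpowers y, ∃ w ∈ W, q = i * w := by
    intro q hq
    obtain ⟨a, rfl⟩ := QuotientGroup.mk'_surjective O q
    obtain ⟨k, hk, hck⟩ := Cfsg.Lib.Coprime.exists_fixed_of_commutator_mem (A := zpowers x) (N := O)
      (by rw [normalizer_eq_top]; exact le_top) (coprime_zpowers H hO3) (Or.inl (solvable_zpowers x))
      (by rw [normalizer_eq_top]; exact mem_top a) (fun b hb => by
        obtain ⟨j, rfl⟩ := mem_zpowers_iff.1 hb
        rw [← QuotientGroup.eq_one_iff]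
        show f (x ^ j * a * (x ^ j)⁻¹ * a⁻¹) = 1
        have h' : Commute (f a) (y ^ j) := hq.zpow_right j
        simp only [map_mul, map_inv, map_zpow]
        show y ^ j * f a * (y ^ j)⁻¹ * (f a)⁻¹ = 1
        rw [← h'.eq]; group)
    obtain ⟨i, hi, u, hu, e⟩ := H.cent _ (mem_centralizer_zpowers_iff.1 hck)
    obtain ⟨j, rfl⟩ := mem_zpowers_iff.1 hi
    exact ⟨y ^ j, zpow_mem (mem_zpowers _) j, f u, ⟨u, hu, rfl⟩, by
      rw [hydef, ← map_zpow, ← map_mul, ← e, map_mul, show f k = 1 from (QuotientGroup.eq_one_iff k).2 hk,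
        mul_one]⟩
  by_cases hs : Group.IsSolvable (G ⧸ O)
  · left
    haveI := hs
    haveI : Group.IsSolvable O := solvable_of_prime_to_fifteen hO3 fun e => h5 (e.trans (card_subgroup_dvd_card O))
    haveI hGs : Group.IsSolvable G := Group.isSolvable_of_ker_le_range O.subtype f (by simp [hf])
    refine ⟨?_, hGs⟩
    haveI : Group.IsSolvable (⊤ : Subgroup G) :=
      Group.isSolvable_of_isSolvable_injective (f := (⊤ : Subgroup G).subtype) (Subgroup.subtype_injective _)
    obtain ⟨K, -, hK3, hKn, hidx, hcore⟩ := exists_solvable_core H (H := (⊤ : Subgroup G)) (mem_top x)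
    haveI hKnorm : K.Normal := normalizer_eq_top_iff.1 (top_unique hKn)
    have hKO : K = O := le_antisymm
      (Cfsg.Lib.Components.le_pPrimeCore (Nat.prime_three.coprime_iff_not_dvd.2 hK3).symm)
      (hcore O le_top (fun r hr => (inferInstance : O.Normal).conj_mem r hr x) hO3)
    rw [Subgroup.card_top, hKO, Subgroup.card_eq_card_quotient_mul_card_subgroup O] at hidx
    rcases hidx with e | e
    · exact Or.inl (Nat.eq_of_mul_eq_mul_right Nat.card_pos e)
    refine Or.inr ?_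
    have h6 : Nat.card (G ⧸ O) = 6 := Nat.eq_of_mul_eq_mul_right Nat.card_pos e
    have hWb : ∀ w ∈ W, w = 1 := by
      rintro _ ⟨w, hw, rfl⟩
      exact (QuotientGroup.eq_one_iff w).2 (hKO ▸ hcore V le_top (H.inv_of_le_V le_rfl) (H.p3_of_le_V le_rfl) hw)
    haveI : Fact (Nat.Prime 2) := ⟨Nat.prime_two⟩
    obtain ⟨a, ha⟩ := exists_prime_orderOf_dvd_card' (G := G ⧸ O) 2 (by rw [h6]; norm_num)
    have hy3 : y ^ 3 = 1 := by
      have h' := pow_orderOf_eq_one y
      rwa [hy] at h'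
    have hidx2 : (zpowers y).index = 2 := by
      have := (zpowers y).card_mul_index
      rw [Nat.card_zpowers, hy, h6] at this
      omega
    haveI := normal_of_index_eq_two hidx2
    have hay : a * y * a⁻¹ = y⁻¹ := by
      obtain ⟨j, hj⟩ := mem_zpowers_iff.1 (Normal.conj_mem (inferInstance : (zpowers y).Normal) y (mem_zpowers y) a)
      have h3 : y ^ (3 : ℤ) = 1 := by exact_mod_cast hy3
      have ej : y ^ j = y ^ (j % 3) := by
        conv_lhs => rw [← Int.emod_add_mul_ediv j 3]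
        rw [zpow_add, zpow_mul, h3, one_zpow, mul_one]
      rw [ej] at hj
      rcases (by omega : j % 3 = 0 ∨ j % 3 = 1 ∨ j % 3 = 2) with r | r | r <;> rw [r] at hj
      · exfalso
        rw [zpow_zero] at hj
        rw [conj_eq_one_iff.1 hj.symm, orderOf_one] at hy
        omega
      · exfalso
        rw [zpow_one] at hj
        obtain ⟨i, hi, w, hw, e'⟩ := hcent a (mul_inv_eq_iff_eq_mul.1 hj.symm)
        rw [hWb w hw, mul_one] at e'
        have ham : a ∈ zpowers y := by rw [e']; exact hi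
        have hd := Subgroup.orderOf_dvd_natCard _ ham
        rw [ha, Nat.card_zpowers, hy] at hd
        norm_num at hd
      · rw [← hj, eq_inv_iff_mul_eq_one, ← zpow_add_one]
        exact h3
    set D := Cfsg.Lib.SmallOffender.dihHom hy3 (by rw [← pow_two, ← ha, pow_orderOf_eq_one]) hay
    have hinj : Function.Injective D := Cfsg.Lib.SmallOffender.dihHom_injective _ _ _
      (fun e' => by rw [e', orderOf_one] at hy; omega)
    refine ⟨(MulEquiv.ofBijective D ⟨hinj, ?_⟩).symm⟩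
    exact (hinj.bijective_of_nat_card_le (by rw [h6, DihedralGroup.nat_card])).2
  right
  obtain ⟨N, hNn, hNs, hyN, hNc, -, hsup, hmin⟩ := exists_simple_top (small_all (Nat.card (G ⧸ O) + 1))
    (Nat.lt_succ_self _) (W := W) hy h9 h5' hObot hcent hxV hW2 hW4 hs
  haveI := hNn
  haveI := hNs
  obtain ⟨p, hpp, hp4, hp713, ⟨eN⟩⟩ : ∃ (p : ℕ) (_ : Fact p.Prime), 4 ≤ p ∧ (p = 7 ∨ p = 13) ∧
      Nonempty (N ≃* Matrix.ProjectiveSpecialLinearGroup (Fin 2) (ZMod p)) := by
    haveI : Fact (Nat.Prime 7) := ⟨by norm_num⟩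
    haveI : Fact (Nat.Prime 13) := ⟨by norm_num⟩
    rcases hNc with ⟨e, -⟩ | ⟨e, -⟩
    · exact ⟨7, inferInstance, by norm_num, Or.inl rfl, Cfsg.Agent.S0495.result e (by rw [ZMod.card])⟩
    · exact ⟨13, inferInstance, by norm_num, Or.inr rfl,
        Cfsg.Agent.S0498.result 13 (Or.inr rfl) (by rw [e]; norm_num) (by rw [ZMod.card])⟩
  haveI := hpp
  set φ : G ⧸ O →* MulAut N := MulAut.conjNormal with hφ
  have hφinj : Function.Injective φ := by
    refine (MonoidHom.ker_eq_bot_iff φ).1 ?_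
    by_contra hne
    have hle := hmin φ.ker (MonoidHom.normal_ker φ) hne
    obtain ⟨a, b, hab⟩ : ∃ a b : N, a * b ≠ b * a := by
      by_contra hno
      push Not at hno
      letI : CommGroup N := { (inferInstance : Group N) with mul_comm := hno }
      have := IsSimpleGroup.prime_card (α := N)
      rcases hNc with ⟨e, -⟩ | ⟨e, -⟩ <;> rw [e] at this <;> norm_num at this
    apply hab
    have h1 : φ (a : G ⧸ O) b = b := by rw [MonoidHom.mem_ker.1 (hle a.2)]; rfl
    exact Subtype.ext (mul_inv_eq_iff_eq_mul.1 (by simpa [φ] using congrArg Subtype.val h1))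
  have hP : Nat.card (MulAut N) = Nat.card (Matrix.ProjGenLinGroup (Fin 2) (ZMod p)) := by
    rw [Nat.card_congr (MulAut.congr eN).toEquiv, Cfsg.Agent.S0813.result (F := ZMod p) p 1 le_rfl
      (by rw [ZMod.card, pow_one]) 2 le_rfl (fun _ => by rw [pow_one]; exact hp4), if_pos rfl, one_mul, one_mul]
  have hA : Nat.card (MulAut N) = 2 * Nat.card N := by
    rw [hP, Cfsg.Lib.Classical.card_PGL, ← Cfsg.Lib.Classical.gcd_mul_card_PSL (ι := Fin 2) (F := ZMod p),
      Fintype.card_fin, Nat.card_zmod, ← Nat.card_congr eN.toEquiv]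
    congr 1
    rcases hp713 with rfl | rfl <;> rfl
  have hi : N.index ≤ 2 := by
    have h1 := Nat.card_le_card_of_injective φ hφinj
    rw [hA, ← N.card_mul_index, mul_comm (Nat.card N)] at h1
    exact Nat.le_of_mul_le_mul_right h1 Nat.card_pos
  have hi0 : N.index ≠ 0 := index_ne_zero_of_finite
  rcases (by omega : N.index = 1 ∨ N.index = 2) with hi1 | hi2
  · left
    have eQ : G ⧸ O ≃* Matrix.ProjectiveSpecialLinearGroup (Fin 2) (ZMod p) :=
      Subgroup.topEquiv.symm.trans ((MulEquiv.subgroupCongr (index_eq_one.1 hi1).symm).trans eN)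
    rcases hp713 with rfl | rfl
    · exact Or.inl ⟨eQ⟩
    · exact Or.inr ⟨eQ⟩
  right
  refine ⟨?_, N.comap f, inferInstance, ?_, ?_⟩
  · have hbij : Function.Bijective φ := hφinj.bijective_of_nat_card_le (by
      rw [hA, ← N.card_mul_index, hi2, mul_comm])
    obtain ⟨e₁⟩ := nonempty_mulAut_pgl p hp4
    have eQ : G ⧸ O ≃* GL (Fin 2) (ZMod p) ⧸ Subgroup.center (GL (Fin 2) (ZMod p)) :=
      (MulEquiv.ofBijective φ hbij).trans ((MulAut.congr eN).trans e₁)
    rcases hp713 with rfl | rfl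
    · exact Or.inl ⟨eQ⟩
    · exact Or.inr ⟨eQ⟩
  · rw [index_comap_of_surjective _ (QuotientGroup.mk'_surjective O), hi2]
  · refine eq_top_iff.2 fun g _ => ?_
    have hg : f g ∈ ((N ⊔ W : Subgroup (G ⧸ O)) : Set (G ⧸ O)) := by rw [hsup]; trivial
    rw [Subgroup.normal_mul] at hg
    obtain ⟨n, hn, _, ⟨v, hv, rfl⟩, e : n * f v = f g⟩ := hg
    rw [show g = (g * v⁻¹) * v by group]
    refine mul_mem (mem_sup_left ?_) (mem_sup_right (mem_centralizer_singleton_iff.2 (H.comm v hv).eq))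
    show f (g * v⁻¹) ∈ N
    rw [map_mul, map_inv, ← e, mul_inv_cancel_right]
    exact hn

end Cfsg.Lib.ThreeFour
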