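import Mathlib

/-!
# An element of order three whose centraliser is the product of its powers and a group of exponent two

Definitions and the interface between the character theory and the local theory.
-/

set_option autoImplicit false

namespace Cfsg.Lib.ThreeFour

open Subgroup

universe u

variable {G : Type u} [Group G]

/-- `C(x) = ⟨x⟩ × V` with `V` of exponent two and order two or four. -/
structure Hyp (x : G) (V : Subgroup G) : Prop where
  ord : orderOf x = 3
  cent : ∀ g : G, Commute g x → ∃ i ∈ zpowers x, ∃ u ∈ V, g = i * u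
  comm : ∀ u ∈ V, Commute u x
  sq : ∀ u ∈ V, u * u = 1
  card : Nat.card V = 2 ∨ Nat.card V = 4

/-- The simple groups to be determined. -/
structure Setting (x : G) (V : Subgroup G) : Prop where
  hyp : Hyp x V
  simple : IsSimpleGroup G
  five : ¬ 5 ∣ Nat.card G

/-- `τ` is an involution inverting `x` and centralising `V`. -/
structure Tau (x : G) (V : Subgroup G) (τ : G) : Prop where
  sq : τ * τ = 1
  conj : τ * x * τ⁻¹ = x⁻¹
  fix : ∀ u ∈ V, Commute τ u

/-- The number of `w ∈ V` with `τ w` conjugate to `t`. -/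
noncomputable def mu (V : Subgroup G) (τ t : G) : ℕ := Nat.card {w : V // IsConj t (τ * w)}

/-- The order of the centraliser of `t`. -/
noncomputable def cen (t : G) : ℕ := Nat.card (centralizer ({t} : Set G))

/-- The elements that count the solutions of `y y' = x` with `y`, `y'` conjugate to `x`. -/
def triangle (x : G) : Set G :=
  {a | ¬ 3 ∣ orderOf a ∧ Commute a (x * a * x⁻¹) ∧ a * (x * a * x⁻¹) * (x⁻¹ * a * x) = 1}

/-- What the character theory of the principal block for the prime three supplies. The signed degrees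
of the three characters are `1`, `F`, `-(F + 1)` and `h` is the value of the second one. -/
structure Principal (x : G) (V : Subgroup G) (τ : G) (F : ℕ) (h : G → ℤ) : Prop where
  ge_seven : 7 ≤ F
  mod_three : F % 3 = 1
  mod_five : F % 5 ≠ 0 ∧ (F + 1) % 5 ≠ 0
  dvd : F ∣ Nat.card G ∧ (F + 1) ∣ Nat.card G
  sq_lt : 1 + F ^ 2 + (F + 1) ^ 2 ≤ Nat.card G
  no_mixed : ∀ p r : ℕ, p.Prime → r.Prime → p ∣ F → r ∣ F + 1 →
    (Nat.card G).factorization p = F.factorization p →
    (Nat.card G).factorization r = (F + 1).factorization r → ∀ g : G, ¬ p * r ∣ orderOf g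
  meet : ∀ t : G, orderOf t = 2 → 0 < mu V τ t
  abs_lt : ∀ t : G, orderOf t = 2 → |h t| < F
  mod_four : ∀ t : G, orderOf t = 2 → (4 : ℤ) ∣ F - h t
  sq_le : ∀ t : G, orderOf t = 2 → 1 + h t ^ 2 + (h t + 1) ^ 2 ≤ cen t
  class_dvd : ∀ t : G, orderOf t = 2 → (F : ℤ) * cen t ∣ h t * Nat.card G ∧
    ((F : ℤ) + 1) * cen t ∣ (h t + 1) * Nat.card G
  cross : ∀ s t : G, orderOf s = 2 → orderOf t = 2 →
    (3 : ℤ) * mu V τ s * mu V τ t * cen s * cen t * (F * (F + 1)) =
      Nat.card V * Nat.card G * ((F - h s) * (F - h t))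
  triangle_bound : (if Nat.card V = 2 then 13 else 7) * Nat.card G ≤
    16 * 9 * Nat.card V ^ 2 * (triangle x).ncard

/-- The statement of the character theory. -/
def CharStmt : Prop :=
  ∀ (G : Type u) [Group G] [Finite G] (x : G) (V : Subgroup G), Setting x V →
    ∃ (τ : G) (F : ℕ) (h : G → ℤ), Tau x V τ ∧ Principal x V τ F h ∧
      ∀ u ∈ V, ∀ u' ∈ V, IsConj u u' → u = u'

end Cfsg.Lib.ThreeFour
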