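import Cfsg.Agent.ThreeFour.Local.EndData
import Cfsg.Agent.ThreeFour.Chars.Main

/-!
The simple groups: the order is 1092 and `V` has order two.
-/

set_option autoImplicit false
set_option linter.unusedSectionVars false
set_option linter.style.haveILetI false

namespace Cfsg.Lib.ThreeFour

open Subgroup

universe u

theorem card_setting_aux (n : ℕ) : ∀ (G : Type u) [Group G] [Finite G] (x : G) (V : Subgroup G),
    Setting x V → Nat.card G = n → Nat.card V = 2 ∧ Nat.card G = 1092 := by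
  induction n using Nat.strong_induction_on with
  | _ n ih =>
    intro G _ _ x V S hn
    obtain ⟨τ, F, h, ht, P, -⟩ := charStmt G x V S
    obtain ⟨s, k, N⟩ := normStmt G x V τ F h S ht P
    have hs : Small.{u} (Nat.card G) := fun G' _ _ x' V' S' hlt => ih _ (hn ▸ hlt) G' x' V' S' rfl
    exact Full.card_eq_final ⟨Ctx.of_principal S ht P hs, P, N⟩

/-- In the simple groups of the setting the order is 1092 and `V` has order two. -/
theorem card_setting {G : Type u} [Group G] [Finite G] {x : G} {V : Subgroup G} (S : Setting x V) :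
    Nat.card V = 2 ∧ Nat.card G = 1092 := card_setting_aux _ G x V S rfl

theorem small_all (n : ℕ) : Small.{u} n := fun _ _ _ _ _ S _ => card_setting S

/-- An abelian centraliser of order twelve and exponent six is `⟨x⟩ × V`. -/
theorem exists_hyp {G : Type u} [Group G] [Finite G] {x : G} (hx : orderOf x = 3)
    (hC : Nat.card (centralizer ({x} : Set G)) = 12)
    (hab : ∀ a ∈ centralizer ({x} : Set G), ∀ b ∈ centralizer ({x} : Set G), a * b = b * a)
    (hexp : ∀ a ∈ centralizer ({x} : Set G), a ^ 6 = 1) :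
    ∃ V : Subgroup G, Hyp x V ∧ Nat.card V = 4 := by
  set C := centralizer ({x} : Set G) with hCdef
  have hxC : x ∈ C := mem_centralizer_singleton_iff.2 rfl
  let V : Subgroup G :=
    { carrier := {g | g ∈ C ∧ g * g = 1}
      one_mem' := ⟨C.one_mem, one_mul 1⟩
      mul_mem' := fun {a b} ha hb => ⟨C.mul_mem ha.1 hb.1, by
        rw [show a * b * (a * b) = a * (b * a) * b by group, hab b hb.1 a ha.1,
          show a * (a * b) * b = a * a * (b * b) by group, ha.2, hb.2, one_mul]⟩
      inv_mem' := fun {a} ha => ⟨C.inv_mem ha.1, by rw [← mul_inv_rev, ha.2, inv_one]⟩ }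
  haveI : Fact (Nat.Prime 3) := ⟨Nat.prime_three⟩
  have hthree : ∀ y ∈ C, y ^ 3 = 1 → y ∈ zpowers x := by
    intro y hy hy3
    by_contra hn
    have hle : zpowers x ⊔ zpowers y ≤ C := sup_le (zpowers_le.2 hxC) (zpowers_le.2 hy)
    have hnorm : zpowers y ≤ normalizer (zpowers x : Set G) := zpowers_le.2
      (Cfsg.Lib.Coprime.mem_normalizer_of_conj_mem
        (fun a ha => by rwa [hab y hy a (zpowers_le.2 hxC ha), mul_inv_cancel_right])
        (fun a ha => by rwa [mul_assoc, hab a (zpowers_le.2 hxC ha) y hy, inv_mul_cancel_left]))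
    have hy1 : y ≠ 1 := fun e => hn (e ▸ one_mem _)
    have hinf : zpowers x ⊓ zpowers y = ⊥ := by
      by_contra hne
      have hd := card_dvd_of_le (inf_le_right : zpowers x ⊓ zpowers y ≤ zpowers y)
      rw [Nat.card_zpowers, orderOf_eq_prime hy3 hy1] at hd
      rcases (Nat.dvd_prime Nat.prime_three).1 hd with e | e
      · exact hne (eq_bot_of_card_eq _ e)
      · have he := Subgroup.eq_of_le_of_card_ge (inf_le_right : zpowers x ⊓ zpowers y ≤ zpowers y)
          (by rw [Nat.card_zpowers, orderOf_eq_prime hy3 hy1, e])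
        exact hn ((le_of_eq he.symm (mem_zpowers y)).1)
    have hc := Cfsg.Lib.Coprime.card_sup_mul_card_inf hnorm
    rw [hinf, card_bot, mul_one, Nat.card_zpowers, Nat.card_zpowers, hx, orderOf_eq_prime hy3 hy1] at hc
    have hd := card_dvd_of_le hle
    rw [hc, hC] at hd
    norm_num at hd
  have hx3 : x ^ 3 = 1 := hx ▸ pow_orderOf_eq_one x
  have hsplit : ∀ g ∈ C, g ^ 4 ∈ zpowers x ∧ g ^ 3 ∈ V ∧ g = g ^ 4 * g ^ 3 := fun g hg =>
    ⟨hthree _ (C.pow_mem hg 4) (by rw [← pow_mul, show 4 * 3 = 6 * 2 by norm_num, pow_mul, hexp g hg, one_pow]),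
      ⟨C.pow_mem hg 3, by rw [← pow_add, hexp g hg]⟩,
      by rw [← pow_add, show 4 + 3 = 6 + 1 by norm_num, pow_succ, hexp g hg, one_mul]⟩
  have hinfV : ∀ g ∈ zpowers x, g ∈ V → g = 1 := by
    intro g hg hgV
    obtain ⟨j, rfl⟩ := mem_zpowers_iff.1 hg
    have h3 : (x ^ j) ^ 3 = 1 := by rw [← zpow_natCast, ← zpow_mul, mul_comm, zpow_mul, zpow_natCast, hx3, one_zpow]
    rwa [pow_succ, pow_two, hgV.2, one_mul] at h3
  have hcard : Nat.card V = 4 := by
    let f : zpowers x × V → C := fun p => ⟨p.1 * p.2, C.mul_mem (zpowers_le.2 hxC p.1.2) p.2.2.1⟩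
    have hf : Function.Bijective f := by
      refine ⟨fun p q e => ?_, fun g => ?_⟩
      · have e' : (p.1 : G) * p.2 = q.1 * q.2 := congrArg Subtype.val e
        have h1 : (q.1 : G)⁻¹ * p.1 = q.2 * (p.2 : G)⁻¹ := by
          rw [inv_mul_eq_iff_eq_mul, ← mul_assoc, ← e', mul_inv_cancel_right]
        have h2 : (q.1 : G)⁻¹ * p.1 = 1 :=
          hinfV _ (mul_mem (inv_mem q.1.2) p.1.2) (h1 ▸ V.mul_mem q.2.2 (V.inv_mem p.2.2))
        have h5 : p.1 = q.1 := Subtype.ext (inv_mul_eq_one.1 h2).symm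
        rw [h5] at e'
        exact Prod.ext h5 (Subtype.ext (mul_left_cancel e'))
      · obtain ⟨h4, h3, e⟩ := hsplit g g.2
        exact ⟨(⟨_, h4⟩, ⟨_, h3⟩), Subtype.ext e.symm⟩
    have := Nat.card_congr (Equiv.ofBijective f hf)
    rw [Nat.card_prod, Nat.card_zpowers, hx, hC] at this
    omega
  refine ⟨V, ⟨hx, fun g hg => ?_, fun u hu => mem_centralizer_singleton_iff.1 hu.1, fun u hu => hu.2,
    Or.inr hcard⟩, hcard⟩
  obtain ⟨h4, h3, e⟩ := hsplit g (mem_centralizer_singleton_iff.2 hg.eq)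
  exact ⟨_, h4, _, h3, e⟩

end Cfsg.Lib.ThreeFour
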