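import Cfsg.Agent.ThreeFour.Defs
import Cfsg.Agent.SelfCentThree.Sylow

/-!
First consequences of the hypothesis on the centraliser of an element of order three: Sylow
subgroups for the prime three, elements of order three, and fusion of the elements of `V`.
-/

set_option autoImplicit false
set_option linter.unusedSectionVars false

namespace Cfsg.Lib.ThreeFour

open Subgroup
open scoped Pointwise

universe u

variable {G : Type u} [Group G] {x : G} {V : Subgroup G}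

theorem Hyp.pow3 (h : Hyp x V) : x ^ 3 = 1 := h.ord ▸ pow_orderOf_eq_one x

theorem Hyp.ne_one (h : Hyp x V) : x ≠ 1 := fun e => by simpa [e] using h.ord

theorem Hyp.mul_self (h : Hyp x V) : x * x = x⁻¹ := by
  rw [eq_inv_iff_mul_eq_one, ← pow_two, ← pow_succ]; exact h.pow3

theorem Hyp.inv_ne (h : Hyp x V) : x⁻¹ ≠ x := fun e => by
  have h2 : x ^ 2 = 1 := by rw [pow_two]; exact inv_eq_iff_mul_eq_one.1 e
  have := h.ord ▸ orderOf_dvd_of_pow_eq_one h2
  omega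

theorem Hyp.mem_three (h : Hyp x V) {g : G} (hg : g ∈ zpowers x) : g = 1 ∨ g = x ∨ g = x⁻¹ := by
  obtain ⟨k, rfl⟩ := mem_zpowers_iff.1 hg
  have h3 : x ^ (3 : ℤ) = 1 := by exact_mod_cast h.pow3
  have hk : x ^ k = x ^ (k % 3) := by
    conv_lhs => rw [← Int.emod_add_mul_ediv k 3]
    rw [zpow_add, zpow_mul, h3, one_zpow, mul_one]
  rw [hk]
  rcases (by omega : k % 3 = 0 ∨ k % 3 = 1 ∨ k % 3 = 2) with e | e | e <;> rw [e]
  · simp
  · simp
  · refine Or.inr (Or.inr ?_)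
    rw [← h.mul_self]; exact zpow_two x

theorem Hyp.conj_conj (h : Hyp x V) (a : G) : x * (x * a * x⁻¹) * x⁻¹ = x⁻¹ * a * x := by
  rw [show x * (x * a * x⁻¹) * x⁻¹ = (x * x) * a * (x * x)⁻¹ by group, h.mul_self, inv_inv]

theorem Hyp.inv_eq (h : Hyp x V) {u : G} (hu : u ∈ V) : u⁻¹ = u :=
  inv_eq_of_mul_eq_one_left (h.sq u hu)

theorem Hyp.comm_V (h : Hyp x V) {u w : G} (hu : u ∈ V) (hw : w ∈ V) : Commute u w := by
  have h1 := h.inv_eq (V.mul_mem hu hw)
  rw [mul_inv_rev, h.inv_eq hu, h.inv_eq hw] at h1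
  exact h1.symm

theorem Hyp.inf_bot (h : Hyp x V) {g : G} (hg : g ∈ zpowers x) (hgV : g ∈ V) : g = 1 := by
  rcases h.mem_three hg with e | e | e
  · exact e
  · exact absurd ((inv_eq_of_mul_eq_one_left (e ▸ h.sq g hgV))) h.inv_ne
  · exfalso
    apply h.inv_ne
    subst e
    have := h.sq _ hgV
    rw [← mul_inv_rev, inv_eq_one] at this
    exact inv_eq_of_mul_eq_one_left this

theorem Hyp.centralizer_eq (h : Hyp x V) {g : G} :
    Commute g x ↔ ∃ i ∈ zpowers x, ∃ u ∈ V, g = i * u := by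
  refine ⟨h.cent g, ?_⟩
  rintro ⟨i, hi, u, hu, rfl⟩
  obtain ⟨k, rfl⟩ := mem_zpowers_iff.1 hi
  exact ((Commute.refl x).zpow_left k).mul_left (h.comm u hu)

theorem Hyp.cent_comm (h : Hyp x V) {g k : G} (hg : Commute g x) (hk : Commute k x) : Commute g k := by
  obtain ⟨i, hi, u, hu, rfl⟩ := h.cent g hg
  obtain ⟨j, hj, w, hw, rfl⟩ := h.cent k hk
  obtain ⟨a, rfl⟩ := mem_zpowers_iff.1 hi
  obtain ⟨b, rfl⟩ := mem_zpowers_iff.1 hj
  have e : ∀ (c : ℤ) {v : G}, v ∈ V → Commute (x ^ c) v := fun c v hv => ((h.comm v hv).symm.zpow_left c)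
  exact ((((Commute.refl x).zpow_zpow a b).mul_right (e a hw)).mul_left
    ((e b hu).symm.mul_right (h.comm_V hu hw)))

/-- An element of `V` is the cube of the elements of the coset `⟨x⟩ u`. -/
theorem Hyp.cube (h : Hyp x V) {i u : G} (hi : i ∈ zpowers x) (hu : u ∈ V) : (i * u) ^ 3 = u := by
  obtain ⟨a, rfl⟩ := mem_zpowers_iff.1 hi
  have h3 : x ^ (3 : ℤ) = 1 := by exact_mod_cast h.pow3
  rw [((h.comm u hu).symm.zpow_left a).mul_pow, ← zpow_natCast (x ^ a), ← zpow_mul, mul_comm,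
    zpow_mul, Nat.cast_ofNat, h3, one_zpow, one_mul, pow_succ, pow_two, h.sq u hu, one_mul]

theorem Hyp.card_centralizer (h : Hyp x V) :
    Nat.card (centralizer ({x} : Set G)) = 3 * Nat.card V := by
  let f : zpowers x × V → centralizer ({x} : Set G) := fun p => ⟨p.1 * p.2,
    mem_centralizer_singleton_iff.2 (h.centralizer_eq.2 ⟨p.1, p.1.2, p.2, p.2.2, rfl⟩)⟩
  have hf : Function.Bijective f := by
    refine ⟨fun p q e => ?_, fun g => ?_⟩
    · have e' : (p.1 : G) * p.2 = q.1 * q.2 := congrArg Subtype.val e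
      have h1 : (q.1 : G)⁻¹ * p.1 = q.2 * (p.2 : G)⁻¹ := by
        rw [inv_mul_eq_iff_eq_mul, ← mul_assoc, ← e', mul_inv_cancel_right]
      have h2 : (q.1 : G)⁻¹ * p.1 = 1 :=
        h.inf_bot (mul_mem (inv_mem q.1.2) p.1.2) (h1 ▸ V.mul_mem q.2.2 (V.inv_mem p.2.2))
      have h5 : p.1 = q.1 := Subtype.ext (inv_mul_eq_one.1 h2).symm
      rw [h5] at e'
      exact Prod.ext h5 (Subtype.ext (mul_left_cancel e'))
    · obtain ⟨i, hi, u, hu, e⟩ := h.cent _ (mem_centralizer_singleton_iff.1 g.2)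
      exact ⟨(⟨i, hi⟩, ⟨u, hu⟩), Subtype.ext e.symm⟩
  rw [← Nat.card_congr (Equiv.ofBijective f hf), Nat.card_prod, Nat.card_zpowers, h.ord]

theorem Hyp.not_three_dvd_V (h : Hyp x V) : ¬ 3 ∣ Nat.card V := by
  rcases h.card with e | e <;> rw [e] <;> omega

variable [Finite G]

theorem Hyp.exists_sylow (h : Hyp x V) [Fact (Nat.Prime 3)] :
    ∃ P : Sylow 3 G, (P : Subgroup G) = zpowers x := by
  have hp : IsPGroup 3 (zpowers x) := IsPGroup.of_card (n := 1) (by rw [Nat.card_zpowers, h.ord, pow_one])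
  obtain ⟨P, hP⟩ := hp.exists_le_sylow
  refine ⟨P, le_antisymm ?_ hP⟩
  have hxP : x ∈ (P : Subgroup G) := hP (mem_zpowers x)
  have key : ∀ y ∈ (P : Subgroup G), Commute y x → y ∈ zpowers x := by
    intro y hy hc
    obtain ⟨i, hi, u, hu, e⟩ := h.cent y hc
    have huP : u ∈ (P : Subgroup G) := by
      rw [show u = i⁻¹ * y by rw [e, inv_mul_cancel_left]]
      exact mul_mem (inv_mem (hP hi)) hy
    obtain ⟨k, hk⟩ := IsPGroup.iff_orderOf.1 P.2 ⟨u, huP⟩
    rw [Subgroup.orderOf_mk] at hk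
    have hu1 : u = 1 := by
      have h2 : orderOf u ∣ 2 := orderOf_dvd_of_pow_eq_one (by rw [pow_two]; exact h.sq u hu)
      have h4 : orderOf u ∣ 1 := by
        have h5 : orderOf u ∣ Nat.gcd 2 (3 ^ k) := Nat.dvd_gcd h2 (hk ▸ dvd_rfl)
        rwa [Nat.Coprime.gcd_eq_one (Nat.Coprime.pow_right k (by norm_num))] at h5
      exact orderOf_eq_one_iff.1 (Nat.dvd_one.1 h4)
    rw [e, hu1, mul_one]
    exact hi
  have : Nontrivial (P : Subgroup G) :=
    ⟨⟨⟨x, hxP⟩, 1, fun e => h.ne_one (congrArg Subtype.val e)⟩⟩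
  have := P.isPGroup'.center_nontrivial
  obtain ⟨⟨z, hz⟩, hz1⟩ := exists_ne (1 : center (P : Subgroup G))
  have hzc : ∀ w ∈ (P : Subgroup G), Commute (z : G) w := fun w hw =>
    (congrArg Subtype.val (mem_center_iff.1 hz ⟨w, hw⟩)).symm
  have hzx : (z : G) ∈ zpowers x := key _ z.2 (hzc x hxP)
  intro w hw
  refine key w hw ?_
  rcases h.mem_three hzx with e | e | e
  · exact absurd (Subtype.ext (Subtype.ext e)) hz1
  · exact (e ▸ hzc w hw).symm
  · exact inv_inv x ▸ (e ▸ hzc w hw).symm.inv_right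

theorem Hyp.not_nine (h : Hyp x V) : ¬ 9 ∣ Nat.card G := fun h9 => by
  have : Fact (Nat.Prime 3) := ⟨Nat.prime_three⟩
  obtain ⟨P, hP⟩ := h.exists_sylow
  have h1 := P.pow_dvd_card_of_pow_dvd_card (n := 2) (by simpa using h9)
  rw [show Nat.card P = Nat.card (P : Subgroup G) from rfl, hP, Nat.card_zpowers, h.ord] at h1
  norm_num at h1

theorem Hyp.three_dvd (h : Hyp x V) : 3 ∣ Nat.card G := h.ord ▸ orderOf_dvd_natCard x

/-- An element of order three generates a conjugate of `⟨x⟩`. -/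
theorem Hyp.exists_conj_mem (h : Hyp x V) {y : G} (hy : orderOf y = 3) :
    ∃ g : G, g⁻¹ * y * g = x ∨ g⁻¹ * y * g = x⁻¹ := by
  have : Fact (Nat.Prime 3) := ⟨Nat.prime_three⟩
  obtain ⟨P, hP⟩ := h.exists_sylow
  obtain ⟨Q, hQ⟩ := (IsPGroup.of_card (p := 3) (n := 1)
    (show Nat.card (zpowers y) = 3 ^ 1 by rw [Nat.card_zpowers, hy, pow_one])).exists_le_sylow
  obtain ⟨g, rfl⟩ := MulAction.exists_smul_eq G P Q
  have h1 : g⁻¹ * y * g ∈ zpowers x := by
    have := hQ (mem_zpowers y)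
    rw [Sylow.coe_subgroup_smul, mem_pointwise_smul_iff_inv_smul_mem, hP] at this
    simpa [MulAut.smul_def, mul_assoc] using this
  refine ⟨g, (h.mem_three h1).resolve_left fun e => ?_⟩
  have : y = 1 := by
    calc y = g * (g⁻¹ * y * g) * g⁻¹ := by group
      _ = 1 := by rw [e]; group
  rw [this, orderOf_one] at hy
  omega

/-- Conjugate elements of `V` are conjugate in the normaliser of `⟨x⟩`. -/
theorem Hyp.fusion (h : Hyp x V) {g u : G} (hu : u ∈ V) (hgu : g * u * g⁻¹ ∈ V) :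
    ∃ n : G, n * x * n⁻¹ ∈ zpowers x ∧ n * u * n⁻¹ = g * u * g⁻¹ := by
  have : Fact (Nat.Prime 3) := ⟨Nat.prime_three⟩
  set w := g * u * g⁻¹ with hw
  set C := centralizer ({w} : Set G) with hC
  have h1 : x ∈ C := mem_centralizer_singleton_iff.2 (h.comm w hgu).symm.eq
  have h2 : g * x * g⁻¹ ∈ C := mem_centralizer_singleton_iff.2 (by
    have := (h.comm u hu).symm.map (MulAut.conj g).toMonoidHom
    simpa [hw] using this.eq)
  obtain ⟨P, hP⟩ := h.exists_sylow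
  have hPC : (P : Subgroup G) ≤ C := hP ▸ zpowers_le.2 h1
  have hp : IsPGroup 3 (zpowers (g * x * g⁻¹)) := IsPGroup.of_card (n := 1) (by
    rw [Nat.card_zpowers, show g * x * g⁻¹ = MulAut.conj g x from rfl, MulEquiv.orderOf_eq, h.ord, pow_one])
  obtain ⟨Q, hQ⟩ := (hp.comap_subtype (K := C)).exists_le_sylow
  obtain ⟨c, hc⟩ := MulAction.exists_smul_eq C Q (P.subtype hPC)
  have hm : (⟨g * x * g⁻¹, h2⟩ : C) ∈ (Q : Subgroup C) := hQ (show g * x * g⁻¹ ∈ zpowers _ from mem_zpowers _)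
  have hcm : c * ⟨g * x * g⁻¹, h2⟩ * c⁻¹ ∈ (P.subtype hPC : Subgroup C) := by
    rw [← hc]
    exact ⟨_, hm, rfl⟩
  refine ⟨c * g, ?_, ?_⟩
  · rw [← hP]
    have : (c : G) * (g * x * g⁻¹) * (c : G)⁻¹ ∈ (P : Subgroup G) := hcm
    rwa [show (c : G) * g * x * (c * g)⁻¹ = (c : G) * (g * x * g⁻¹) * (c : G)⁻¹ by group]
  · have := mem_centralizer_singleton_iff.1 c.2
    rw [show (c : G) * g * u * (c * g)⁻¹ = (c : G) * (g * u * g⁻¹) * (c : G)⁻¹ by group, ← hw, this,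
      mul_inv_cancel_right]

/-- With an inverting element centralising `V`, no two elements of `V` are conjugate. -/
theorem Hyp.eq_of_isConj (h : Hyp x V) {τ : G} (ht : Tau x V τ) {u u' : G} (hu : u ∈ V) (hu' : u' ∈ V)
    (hc : IsConj u u') : u = u' := by
  obtain ⟨g, hg⟩ := isConj_iff.1 hc
  obtain ⟨n, hn, e⟩ := h.fusion hu (g := g) (hg.symm ▸ hu')
  rw [hg] at e
  have key : ∀ m : G, m * x * m⁻¹ = x → m * u * m⁻¹ = u := fun m hm => by
    have hmx : Commute m x := mul_inv_eq_iff_eq_mul.1 hm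
    have := h.cent_comm hmx (h.comm u hu)
    rw [this.eq, mul_inv_cancel_right]
  rcases h.mem_three hn with e1 | e1 | e1
  · exact absurd (conj_eq_one_iff.1 e1) h.ne_one
  · rw [← e, key n e1]
  · have h2 := key (τ * n) (by
      rw [show τ * n * x * (τ * n)⁻¹ = τ * (n * x * n⁻¹) * τ⁻¹ by group, e1, ← conj_inv, ht.conj, inv_inv])
    rw [show τ * n * u * (τ * n)⁻¹ = τ * (n * u * n⁻¹) * τ⁻¹ by group, e] at h2
    have h3 := (ht.fix u' hu').eq
    rw [h3, mul_inv_cancel_right] at h2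
    exact h2.symm

end Cfsg.Lib.ThreeFour

namespace Cfsg.Lib.ThreeFour

open Subgroup

universe u

variable {G : Type u} [Group G] {x τ : G} {V : Subgroup G}

theorem Tau.inv_eq (ht : Tau x V τ) : τ⁻¹ = τ := inv_eq_of_mul_eq_one_left ht.sq

theorem Tau.conj_inv_x (ht : Tau x V τ) : τ * x⁻¹ * τ⁻¹ = x := by
  rw [← conj_inv, ht.conj, inv_inv]

theorem Tau.not_commute (h : Hyp x V) (ht : Tau x V τ) : ¬ Commute τ x := fun hc => h.inv_ne (by
  rw [← ht.conj, hc.eq, mul_inv_cancel_right])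

theorem Tau.ne_one (h : Hyp x V) (ht : Tau x V τ) : τ ≠ 1 := fun e =>
  ht.not_commute h (e ▸ Commute.one_left x)

theorem Tau.orderOf_eq (h : Hyp x V) (ht : Tau x V τ) : orderOf τ = 2 :=
  haveI : Fact (Nat.Prime 2) := ⟨Nat.prime_two⟩
  orderOf_eq_prime (by rw [pow_two]; exact ht.sq) (ht.ne_one h)

/-- An element inverting `x` lies in `τ ⟨x⟩ V`. -/
theorem Tau.mem_coset (h : Hyp x V) (ht : Tau x V τ) {g : G} (hg : g * x * g⁻¹ = x⁻¹) :
    ∃ i ∈ zpowers x, ∃ u ∈ V, g = τ * (i * u) := by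
  obtain ⟨i, hi, u, hu, e⟩ := h.cent (τ * g) (mul_inv_eq_iff_eq_mul.1 (by
    rw [show τ * g * x * (τ * g)⁻¹ = τ * (g * x * g⁻¹) * τ⁻¹ by group, hg, ht.conj_inv_x]))
  exact ⟨i, hi, u, hu, by rw [← e, ← mul_assoc, ht.sq, one_mul]⟩

/-- The elements of the normaliser of `⟨x⟩` centralise `V`. -/
theorem Tau.normalizer_fix (h : Hyp x V) (ht : Tau x V τ) {g : G} (hg : g * x * g⁻¹ ∈ zpowers x)
    {u : G} (hu : u ∈ V) : Commute g u := by
  rcases h.mem_three hg with e | e | e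
  · exact absurd (conj_eq_one_iff.1 e) h.ne_one
  · exact h.cent_comm (mul_inv_eq_iff_eq_mul.1 e) (h.comm u hu)
  · obtain ⟨i, hi, w, hw, rfl⟩ := ht.mem_coset h e
    exact (ht.fix u hu).mul_left (h.cent_comm (h.centralizer_eq.2 ⟨i, hi, w, hw, rfl⟩) (h.comm u hu))

/-- Every coset `τ ⟨x⟩ w` consists of conjugates of `τ w`. -/
theorem Tau.isConj_coset (h : Hyp x V) (ht : Tau x V τ) {i w : G} (hi : i ∈ zpowers x) (hw : w ∈ V) :
    IsConj (τ * w) (τ * (i * w)) := by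
  have e1 : x * τ = τ * x⁻¹ := by
    calc x * τ = (τ * x⁻¹ * τ⁻¹) * τ := by rw [ht.conj_inv_x]
      _ = τ * x⁻¹ := by group
  have e2 : x⁻¹ * τ = τ * x := by
    calc x⁻¹ * τ = (τ * x * τ⁻¹) * τ := by rw [ht.conj]
      _ = τ * x := by group
  have hx := (h.comm w hw).eq
  rcases h.mem_three hi with e | e | e <;> rw [e]
  · rw [one_mul]
  · refine isConj_iff.2 ⟨x, ?_⟩
    calc x * (τ * w) * x⁻¹ = τ * (x⁻¹ * (w * x⁻¹)) := by
          rw [← mul_assoc x τ w, e1]; simp only [mul_assoc]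
      _ = τ * ((x⁻¹ * x⁻¹) * w) := by rw [(h.comm w hw).inv_right.eq, mul_assoc x⁻¹ x⁻¹ w]
      _ = τ * (x * w) := by rw [← mul_inv_rev, h.mul_self, inv_inv]
  · refine isConj_iff.2 ⟨x⁻¹, ?_⟩
    calc x⁻¹ * (τ * w) * x⁻¹⁻¹ = τ * (x * (w * x)) := by
          rw [← mul_assoc x⁻¹ τ w, e2, inv_inv]; simp only [mul_assoc]
      _ = τ * ((x * x) * w) := by rw [hx, mul_assoc x x w]
      _ = τ * (x⁻¹ * w) := by rw [h.mul_self]

end Cfsg.Lib.ThreeFour
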