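import Cfsg.Agent.S0336

/-!
A finite group of order prime to three and to five is solvable: the simple groups of order prime to three
are the Suzuki groups, whose orders are multiples of five.
-/

set_option autoImplicit false
set_option linter.style.haveILetI false

namespace Cfsg.Lib.ThreeFour

open Subgroup

universe u

theorem five_dvd_suzuki {q : ℕ} (m : ℕ) (hq : q = 2 ^ (2 * m + 1)) : 5 ∣ q ^ 2 + 1 := by
  subst hq
  rw [← pow_mul, show (2 * m + 1) * 2 = 4 * m + 2 by ring, pow_add, pow_mul]
  have h : (2 ^ 4) ^ m % 5 = 1 := by rw [Nat.pow_mod]; norm_num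
  omega

theorem solvable_of_prime_to_fifteen_aux (n : ℕ) :
    ∀ (H : Type u) [Group H] [Finite H], Nat.card H = n → ¬ 3 ∣ Nat.card H → ¬ 5 ∣ Nat.card H →
      Group.IsSolvable H := by
  induction n using Nat.strong_induction_on with
  | _ n ih =>
    intro H _ _ hn h3 h5
    rcases subsingleton_or_nontrivial H with hs | hnt
    · exact Group.isSolvable_of_comm fun a b => Subsingleton.elim _ _
    by_cases hN : ∃ N : Subgroup H, N.Normal ∧ N ≠ ⊥ ∧ N ≠ ⊤
    · obtain ⟨N, hNn, hN0, hN1⟩ := hN
      haveI := hNn
      have hmul := N.card_mul_index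
      have hc : 1 < Nat.card N := (one_lt_card_iff_ne_bot N).2 hN0
      have hi : 1 < N.index := by
        rcases Nat.lt_or_ge 1 N.index with h | h
        · exact h
        · exact absurd (index_eq_one.1 (le_antisymm h (Nat.pos_of_ne_zero index_ne_zero_of_finite))) hN1
      have d1 : Nat.card N ∣ Nat.card H := card_subgroup_dvd_card N
      have d2 : Nat.card (H ⧸ N) ∣ Nat.card H := card_quotient_dvd_card N
      haveI : Group.IsSolvable ↥N := ih (Nat.card N) (by rw [← hn, ← hmul]; nlinarith) N rfl
        (fun h => h3 (h.trans d1)) (fun h => h5 (h.trans d1))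
      haveI : Group.IsSolvable (H ⧸ N) := ih (Nat.card (H ⧸ N))
        (by rw [← index_eq_card, ← hn, ← hmul]; nlinarith) (H ⧸ N) rfl
        (fun h => h3 (h.trans d2)) (fun h => h5 (h.trans d2))
      exact Group.isSolvable_of_ker_le_range N.subtype (QuotientGroup.mk' N) (by simp)
    · push Not at hN
      haveI : IsSimpleGroup H := ⟨fun N hNn => or_iff_not_imp_left.2 (hN N hNn)⟩
      by_cases hab : ∃ a b : H, a * b ≠ b * a
      · obtain ⟨-, m, -, hcard⟩ := Cfsg.Agent.S0336.result hab h3
        refine absurd ?_ h5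
        rw [hcard]
        exact Dvd.dvd.mul_right (Dvd.dvd.mul_left (five_dvd_suzuki m rfl) _) _
      · push Not at hab
        exact Group.isSolvable_of_comm hab

/-- A group of order prime to three and to five is solvable. -/
theorem solvable_of_prime_to_fifteen {H : Type u} [Group H] [Finite H] (h3 : ¬ 3 ∣ Nat.card H)
    (h5 : ¬ 5 ∣ Nat.card H) : Group.IsSolvable H :=
  solvable_of_prime_to_fifteen_aux _ H rfl h3 h5

end Cfsg.Lib.ThreeFour
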